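import Cfsg.Agent.Mrg.Omega.NO3S.SN.Def
import Cfsg.Agent.Omega.NoFF.Lines
import Cfsg.Agent.MinSimple.CosetFam


/-!
# THEOREM SN, part (1): points, lines, critical pairs (no Sylow subgroup)

`z = pt ε 0`, `z_i = pt ε i`; points are the conjugates `y` of `z`; `Cn y = C_G(y)`, `Qn y = O₂(C_G(y))`,
`U y = ⟨V^g : z^g = y⟩`.

* `Base V P ε` : `V` even-subset module of `P` of degree `n ≥ 9`, `⟨P, C_G(z)⟩` nonlocal, `V ≤ Ω₁Z(O₂(C_G(z)))`;
  `Hyp.base`;
* `Adj ε y p` : `y ≠ p` are points of a line (= conjugate of `(z, z_1)`);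
* `Walk ε k x y`, `Crit V ε n x y`, `Base.exists_crit`, `Base.theta` : `U_a ≤ Q_b` for `d(a, b) < n`;
* `Base.inf_le` (1d) : `C_{Q_p}(U_y) ≤ Q_y`;
* `Base.exists_off` : `A = U^g ≤ O₂(C_G(z_1))` is a quadratic offender on `U_z`;
* for part (2): `Base.Qn_le_o2`, `Hyp.U_fixed`, `Hyp.o2_trivial`.
-/

set_option autoImplicit false
set_option linter.unusedSectionVars false

namespace Cfsg.Agent.Omega.NO3S.SN

open Subgroup Cfsg Cfsg.Agent.ZN Cfsg.Agent.Omega.MinPar Cfsg.Agent.Omega.Frame Cfsg.Agent.Omega.FrameNOFF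
open Cfsg.Agent.Omega.S5.Def Cfsg.Agent.Omega.S5.Syl
open Cfsg.Agent.MinSimple.VModule
open Cfsg.Agent.MinSimple.CosetFam (o2_conj zc_conj centralizer_conj normalizer_conj)
open Cfsg.Agent.Omega.NoFF.Basic (conj_conj conj_self mem_conj conj_le_iff comm_symm comm_mono conj_le_centralizer)
open scoped Pointwise

universe u

section gen

variable {G : Type u} [Group G]

/-- `C_G(y)` -/
abbrev Cn (y : G) : Subgroup G := centralizer ({y} : Set G)

/-- `Q_y = O₂(C_G(y))` -/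
abbrev Qn (y : G) : Subgroup G := o2 (Cn y)

theorem mem_Cn {y g : G} : g ∈ Cn y ↔ g * y = y * g := mem_centralizer_singleton_iff

theorem mem_Cn' {y g : G} : g ∈ Cn y ↔ g * y * g⁻¹ = y := by
  rw [mem_Cn, mul_inv_eq_iff_eq_mul]

theorem conj_Cn (g y : G) : MulAut.conj g • Cn y = Cn (g * y * g⁻¹) := by
  ext x
  rw [mem_conj, mem_Cn', mem_Cn']
  constructor
  · intro h
    have h2 := congrArg (fun t => g * t * g⁻¹) h
    simpa [mul_assoc] using h2
  · intro h
    have h2 := congrArg (fun t => g⁻¹ * t * g) h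
    simpa [mul_assoc] using h2

theorem conj_Qn (g y : G) : MulAut.conj g • Qn y = Qn (g * y * g⁻¹) := by
  rw [Qn, ← o2_conj, conj_Cn]

theorem conj_eq_self {A : Subgroup G} {g : G} (hg : g ∈ normalizer (A : Set G)) : MulAut.conj g • A = A :=
  NoFF.Main.conj_eq_of_mem_normalizer hg

theorem mem_normalizer_of_conj_eq {A : Subgroup G} {g : G} (h : MulAut.conj g • A = A) :
    g ∈ normalizer (A : Set G) := by
  rw [mem_normalizer_iff]
  intro x
  constructor
  · intro hx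
    rw [← h, mem_conj]
    simpa [mul_assoc] using hx
  · intro hx
    rw [← h, mem_conj] at hx
    simpa [mul_assoc] using hx

theorem conj_oddGen (g : G) (L : Subgroup G) : MulAut.conj g • oddGen L = oddGen (MulAut.conj g • L) := by
  have key : ∀ (g : G) (L : Subgroup G), MulAut.conj g • oddGen L ≤ oddGen (MulAut.conj g • L) := by
    intro g L
    change (oddGen L).map (MulAut.conj g).toMonoidHom ≤ _
    rw [oddGen_def, MonoidHom.map_closure, closure_le]
    rintro _ ⟨y, ⟨hy, ho⟩, rfl⟩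
    refine mem_oddGen ⟨y, hy, rfl⟩ ?_
    have : orderOf ((MulAut.conj g).toMonoidHom y) = orderOf y :=
      orderOf_injective _ (MulAut.conj g).injective y
    rw [this]
    exact ho
  refine le_antisymm (key g L) ?_
  have h1 := conj_le_iff (g := g) |>.2 (key g⁻¹ (MulAut.conj g • L))
  rwa [conj_conj, conj_conj, mul_inv_cancel, inv_mul_cancel, map_one, one_smul, one_smul] at h1

theorem conj_commutator (g : G) (A B : Subgroup G) :
    MulAut.conj g • ⁅A, B⁆ = ⁅MulAut.conj g • A, MulAut.conj g • B⁆ :=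
  Subgroup.map_commutator A B (MulAut.conj g).toMonoidHom

theorem mem_conj_of {A : Subgroup G} {a : G} (ha : a ∈ A) (g : G) : g * a * g⁻¹ ∈ MulAut.conj g • A := by
  rw [mem_conj]
  simpa [mul_assoc] using ha

theorem conj_mul_inj {g a b : G} : g * a * g⁻¹ = g * b * g⁻¹ ↔ a = b := by
  constructor
  · intro h
    exact mul_left_cancel (mul_right_cancel h)
  · rintro rfl
    rfl

theorem conj_zpowers (g a : G) : MulAut.conj g • zpowers a = zpowers (g * a * g⁻¹) := by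
  change (zpowers a).map (MulAut.conj g).toMonoidHom = _
  rw [MonoidHom.map_zpowers]
  rfl

theorem mem_zpowers_iff_of_sq {a b : G} (ha : a ^ 2 = 1) : b ∈ zpowers a ↔ b = 1 ∨ b = a := by
  constructor
  · rintro ⟨k, rfl⟩
    rcases Int.even_or_odd' k with ⟨l, rfl | rfl⟩
    · left
      change a ^ (2 * l) = 1
      rw [zpow_mul, zpow_ofNat, ha, one_zpow]
    · right
      change a ^ (2 * l + 1) = a
      rw [zpow_add, zpow_mul, zpow_ofNat, ha, one_zpow, one_mul, zpow_one]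
  · rintro (rfl | rfl)
    · exact one_mem _
    · exact mem_zpowers _

theorem isPGroup_of_sq {A : Subgroup G} (h : ∀ a ∈ A, a ^ 2 = 1) : IsPGroup 2 A :=
  fun a => ⟨1, Subtype.ext (by simpa using h a a.2)⟩

/-- `U_y` -/
theorem line_le {V : Subgroup G} {z y g : G} (h : g * z * g⁻¹ = y) : MulAut.conj g • V ≤ U V z y :=
  le_iSup (fun g : {g : G // g * z * g⁻¹ = y} => MulAut.conj (g : G) • V) ⟨g, h⟩

theorem U_le {V A : Subgroup G} {z y : G} (h : ∀ g, g * z * g⁻¹ = y → MulAut.conj g • V ≤ A) : U V z y ≤ A :=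
  iSup_le fun g => h g g.2

theorem conj_U (V : Subgroup G) (z y g : G) : MulAut.conj g • U V z y = U V z (g * y * g⁻¹) := by
  have key : ∀ (g y : G), MulAut.conj g • U V z y ≤ U V z (g * y * g⁻¹) := by
    intro g y
    rw [Subgroup.pointwise_smul_subset_iff]
    refine U_le fun k hk => ?_
    rw [← Subgroup.pointwise_smul_subset_iff, conj_conj]
    refine line_le ?_
    rw [← hk]
    group
  refine le_antisymm (key g y) ?_
  have h1 := conj_le_iff (g := g) |>.2 (key g⁻¹ (g * y * g⁻¹))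
  rw [conj_conj, mul_inv_cancel, map_one, one_smul] at h1
  refine h1.trans (le_of_eq ?_)
  congr 2
  group

end gen

/-! ### `Base` -/

/-- `z_i` -/
abbrev pt {G : Type u} {n : ℕ} (ε : (Fin n → ZMod 2) → G) (i : Fin n) : G := ε (Pi.single i 1)

/-- The hypotheses without Sylow subgroup. -/
structure Base {G : Type u} [Group G] {n : ℕ} [NeZero n] (V P : Subgroup G)
    (ε : (Fin n → ZMod 2) → G) : Prop where
  five : 5 ≤ n
  ev : EvenSet n V P ε
  nonLoc : NonLoc P (Cn (pt ε 0))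
  V_le : V ≤ zc (Qn (pt ε 0))

theorem Hyp.base {G : Type u} [Group G] [Finite G] {S : Sylow 2 G} {P : Subgroup G} {m : ℕ}
    {ε : (Fin (2 ^ m + 1) → ZMod 2) → G} (h : Hyp S P m ε) : Base (zl (S : Subgroup G) P) P ε where
  five := le_trans (by norm_num) h.nine_le
  ev := h.ev
  nonLoc := by
    have h1 := h.nonLoc
    rwa [h.CZ_eq] at h1
  V_le := h.V_le

/-- `y`, `p` are two points of a line. -/
def Adj {G : Type u} [Group G] {n : ℕ} [NeZero n] (ε : (Fin n → ZMod 2) → G) (y p : G) : Prop :=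
  ∃ g : G, g * pt ε 0 * g⁻¹ = y ∧ g * pt ε 1 * g⁻¹ = p

/-- Walks in the collinearity graph. -/
inductive Walk {G : Type u} [Group G] {n : ℕ} [NeZero n] (ε : (Fin n → ZMod 2) → G) : ℕ → G → G → Prop
  | refl (g : G) : Walk ε 0 (g * pt ε 0 * g⁻¹) (g * pt ε 0 * g⁻¹)
  | step {k : ℕ} {y p q : G} (h : Walk ε k y p) (a : Adj ε p q) : Walk ε (k + 1) y q

/-- Critical pairs. -/
structure Crit {G : Type u} [Group G] {n : ℕ} [NeZero n] (V : Subgroup G) (ε : (Fin n → ZMod 2) → G)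
    (k : ℕ) (x y : G) : Prop where
  walk : Walk ε k x y
  ne : ¬ U V (pt ε 0) x ≤ centralizer (U V (pt ε 0) y : Set G)
  min : ∀ l < k, ∀ a b, Walk ε l a b → U V (pt ε 0) a ≤ centralizer (U V (pt ε 0) b : Set G)

section graph

variable {G : Type u} [Group G] {n : ℕ} [NeZero n] {V P : Subgroup G} {ε : (Fin n → ZMod 2) → G}

theorem Adj.conj {y p : G} (h : Adj ε y p) (g : G) : Adj ε (g * y * g⁻¹) (g * p * g⁻¹) := by
  obtain ⟨k, rfl, rfl⟩ := h
  exact ⟨g * k, by group, by group⟩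

theorem Adj.left {y p : G} (h : Adj ε y p) : ∃ g, g * pt ε 0 * g⁻¹ = y := by
  obtain ⟨k, h1, -⟩ := h
  exact ⟨k, h1⟩

theorem Walk.conj {k : ℕ} {y p : G} (h : Walk ε k y p) (g : G) : Walk ε k (g * y * g⁻¹) (g * p * g⁻¹) := by
  induction h with
  | refl a =>
    have h1 := Walk.refl (ε := ε) (g * a)
    have h2 : g * a * pt ε 0 * (g * a)⁻¹ = g * (a * pt ε 0 * a⁻¹) * g⁻¹ := by group
    rwa [h2] at h1
  | step _ a ih => exact ih.step (a.conj g)

theorem Walk.trans {k l : ℕ} {a b c : G} (h : Walk ε k a b) (h' : Walk ε l b c) : Walk ε (k + l) a c := by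
  induction h' with
  | refl => exact h
  | step _ a ih => exact (ih h).step a

theorem Walk.left {k : ℕ} {y p : G} (h : Walk ε k y p) : ∃ g, g * pt ε 0 * g⁻¹ = y := by
  induction h with
  | refl a => exact ⟨a, rfl⟩
  | step _ _ ih => exact ih

theorem Walk.zero_eq {y p : G} (h : Walk ε 0 y p) : y = p := by
  cases h
  rfl

theorem Walk.of_left {y : G} (h : ∃ g, g * pt ε 0 * g⁻¹ = y) : Walk ε 0 y y := by
  obtain ⟨g, rfl⟩ := h
  exact Walk.refl g

theorem Adj.walk {y p : G} (h : Adj ε y p) : Walk ε 1 y p := (Walk.of_left h.left).step h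

end graph

namespace Base

variable {G : Type u} [Group G] {n : ℕ} [NeZero n] {V P : Subgroup G} {ε : (Fin n → ZMod 2) → G}
  (B : Base V P ε)
include B

theorem three_le : 3 ≤ n := le_trans (by norm_num) B.five

omit B in
theorem val_one (h : 2 ≤ n) : ((1 : Fin n) : ℕ) = 1 := by
  rw [Fin.val_one', Nat.mod_eq_of_lt (by omega)]

theorem one_ne_zero : (1 : Fin n) ≠ 0 := by
  intro h
  have h1 := congrArg Fin.val h
  rw [val_one (le_trans (by norm_num) B.five), Fin.val_zero] at h1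
  exact Nat.one_ne_zero h1

/-- `z_i ^ 2 = 1` -/
theorem pt_sq (i : Fin n) : pt ε i ^ 2 = 1 := by
  rw [pow_two]
  exact B.ev.sq _

theorem pt_ne_one (i : Fin n) : pt ε i ≠ 1 := B.ev.single_ne_one B.three_le i

theorem pt_inj {i j : Fin n} (h : pt ε i = pt ε j) : i = j := B.ev.single_inj B.three_le h

theorem pt_mem (i : Fin n) : pt ε i ∈ V := B.ev.mem _

theorem conj_V {w : G} (hw : w ∈ P) : MulAut.conj w • V = V := conj_eq_self (B.ev.le_normalizer hw)

/-- The permutations of the letters are induced by `P`. -/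
theorem exists_perm (σ : Equiv.Perm (Fin n)) : ∃ w ∈ P, MulAut.conj w • V = V ∧
    ∀ i, w * pt ε i * w⁻¹ = pt ε (σ i) := by
  obtain ⟨w, hw, hσ⟩ := B.ev.full σ
  exact ⟨w, hw, B.conj_V hw, fun i => hσ.single i⟩

/-- Two letters. -/
theorem exists_two {i j : Fin n} (hij : i ≠ j) : ∃ w ∈ P, MulAut.conj w • V = V ∧
    w * pt ε 0 * w⁻¹ = pt ε i ∧ w * pt ε 1 * w⁻¹ = pt ε j := by
  let σ : Equiv.Perm (Fin n) := Equiv.swap (Equiv.swap 0 i 1) j * Equiv.swap 0 i
  obtain ⟨w, hw, h1, h2⟩ := B.exists_perm σ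
  refine ⟨w, hw, h1, ?_, ?_⟩
  · rw [h2]
    congr 2
    change Equiv.swap (Equiv.swap 0 i 1) j (Equiv.swap 0 i 0) = i
    rw [Equiv.swap_apply_left]
    refine Equiv.swap_apply_of_ne_of_ne ?_ hij
    intro h3
    have h4 : Equiv.swap 0 i 0 = Equiv.swap 0 i (1 : Fin n) := by
      rw [Equiv.swap_apply_left]
      exact h3
    exact B.one_ne_zero ((Equiv.swap (0 : Fin n) i).injective h4).symm
  · rw [h2]
    congr 2
    change Equiv.swap (Equiv.swap 0 i 1) j (Equiv.swap 0 i 1) = j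
    rw [Equiv.swap_apply_left]

theorem adj_pt {i j : Fin n} (hij : i ≠ j) : Adj ε (pt ε i) (pt ε j) := by
  obtain ⟨w, -, -, h1, h2⟩ := B.exists_two hij
  exact ⟨w, h1, h2⟩

theorem adj_symm {y p : G} (h : Adj ε y p) : Adj ε p y := by
  obtain ⟨g, rfl, rfl⟩ := h
  exact (B.adj_pt B.one_ne_zero).conj g

theorem walk_symm {k : ℕ} {x y : G} (h : Walk ε k x y) : Walk ε k y x := by
  induction h with
  | refl a => exact Walk.refl a
  | step _ a ih =>
    have h1 := (B.adj_symm a).walk.trans ih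
    rwa [add_comm] at h1

/-- A walk from the left. -/
theorem walk_cases {k : ℕ} {x y : G} (h : Walk ε (k + 1) x y) : ∃ p, Adj ε x p ∧ Walk ε k p y := by
  have h1 := B.walk_symm h
  cases h1 with
  | step h2 a => exact ⟨_, B.adj_symm a, B.walk_symm h2⟩

theorem adj_ne {y p : G} (h : Adj ε y p) : y ≠ p := by
  obtain ⟨g, rfl, rfl⟩ := h
  intro h1
  exact B.one_ne_zero (B.pt_inj (conj_mul_inj.1 h1)).symm

theorem sq_of {y : G} (h : ∃ g, g * pt ε 0 * g⁻¹ = y) : y ^ 2 = 1 := by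
  obtain ⟨g, rfl⟩ := h
  rw [conj_pow, B.pt_sq, mul_one, mul_inv_cancel]

theorem ne_one_of {y : G} (h : ∃ g, g * pt ε 0 * g⁻¹ = y) : y ≠ 1 := by
  obtain ⟨g, rfl⟩ := h
  intro h1
  refine B.pt_ne_one 0 (conj_mul_inj (g := g) |>.1 ?_)
  rw [h1, mul_one, mul_inv_cancel]

theorem adj_notMem {y p : G} (h : Adj ε y p) : p ∉ zpowers y := by
  rw [mem_zpowers_iff_of_sq (B.sq_of h.left)]
  rintro (h1 | h1)
  · exact B.ne_one_of (B.adj_symm h).left h1
  · exact B.adj_ne h h1.symm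

/-! ### `U_y` -/

theorem V_le_U (i : Fin n) : V ≤ U V (pt ε 0) (pt ε i) := by
  have h1 : ∃ w ∈ P, MulAut.conj w • V = V ∧ w * pt ε 0 * w⁻¹ = pt ε i := by
    obtain ⟨w, hw, h1, h2⟩ := B.exists_perm (Equiv.swap 0 i)
    exact ⟨w, hw, h1, by rw [h2, Equiv.swap_apply_left]⟩
  obtain ⟨w, -, h2, h3⟩ := h1
  have h4 := line_le (V := V) h3
  rwa [h2] at h4

theorem U_le_zc (y : G) : U V (pt ε 0) y ≤ zc (Qn y) := by
  refine U_le fun g hg => ?_
  rw [← hg, ← conj_Qn, zc_conj]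
  exact conj_le_iff.2 B.V_le

theorem U_le_Qn (y : G) : U V (pt ε 0) y ≤ Qn y := (B.U_le_zc y).trans (zc_le _)

theorem U_comm (y : G) : U V (pt ε 0) y ≤ centralizer (U V (pt ε 0) y : Set G) := by
  intro a ha
  rw [mem_centralizer_iff]
  intro b hb
  exact zc_comm _ _ (B.U_le_zc y hb) _ (B.U_le_zc y ha)

theorem U_sq (y : G) : ∀ a ∈ U V (pt ε 0) y, a ^ 2 = 1 := fun a ha => zc_sq _ a (B.U_le_zc y ha)

theorem U_isPGroup (y : G) : IsPGroup 2 (U V (pt ε 0) y) := isPGroup_of_sq (B.U_sq y)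

theorem Qn_le (y : G) : Qn y ≤ centralizer (U V (pt ε 0) y : Set G) :=
  comm_symm ((B.U_le_zc y).trans (zc_le_centralizer _))

omit [NeZero n] B in
theorem Cn_le_normalizer (z y : G) : Cn y ≤ normalizer (U V z y : Set G) := by
  intro c hc
  refine mem_normalizer_of_conj_eq ?_
  rw [conj_U, mem_Cn'.1 hc]

theorem mem_U_self {y : G} (h : ∃ g, g * pt ε 0 * g⁻¹ = y) : y ∈ U V (pt ε 0) y := by
  obtain ⟨g, rfl⟩ := h
  rw [← conj_U]
  exact mem_conj_of (B.V_le_U 0 (B.pt_mem 0)) g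

theorem mem_U {y p : G} (h : Adj ε y p) : p ∈ U V (pt ε 0) y := by
  obtain ⟨g, rfl, rfl⟩ := h
  rw [← conj_U]
  exact mem_conj_of (B.V_le_U 0 (B.pt_mem 1)) g

theorem U_le_Cn (y : G) : U V (pt ε 0) y ≤ Cn y := (B.U_le_Qn y).trans (o2_le _)

theorem centralizer_U_le {y p : G} (h : p ∈ U V (pt ε 0) y) : centralizer (U V (pt ε 0) y : Set G) ≤ Cn p := by
  intro g hg
  rw [mem_Cn]
  exact (mem_centralizer_iff.1 hg p h).symm

/-- A normal 2-subgroup of `C_G(U_y)` lies in `Q_y`. -/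
theorem le_Qn {y : G} (hy : ∃ g, g * pt ε 0 * g⁻¹ = y) {A : Subgroup G} (hA : IsPGroup 2 A)
    (h1 : A ≤ centralizer (U V (pt ε 0) y : Set G))
    (h2 : centralizer (U V (pt ε 0) y : Set G) ≤ normalizer (A : Set G)) : A ≤ Qn y := by
  set K := centralizer (U V (pt ε 0) y : Set G) with hK
  have h3 : A ≤ o2 K := le_o2 h1 hA h2
  refine h3.trans ?_
  have h4 : K ≤ Cn y := B.centralizer_U_le (B.mem_U_self hy)
  refine le_o2 ((o2_le _).trans h4) (o2_isPGroup _) ?_
  intro c hc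
  refine mem_normalizer_of_conj_eq ?_
  rw [← o2_conj, hK, ← centralizer_conj, conj_U, mem_Cn'.1 hc]

/-- (1d) `C_{Q_p}(U_y) ≤ Q_y` for collinear `y`, `p`. -/
theorem inf_le {y p : G} (h : Adj ε y p) : Qn p ⊓ centralizer (U V (pt ε 0) y : Set G) ≤ Qn y := by
  refine B.le_Qn h.left ((o2_isPGroup _).to_le inf_le_left) inf_le_right ?_
  intro c hc
  have h1 : c ∈ Cn p := B.centralizer_U_le (B.mem_U h) hc
  refine mem_normalizer_of_conj_eq ?_
  rw [smul_inf, conj_Qn, mem_Cn'.1 h1, conj_self hc]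

/-- (1e) `U_a ≤ Q_b` for pairs at distance smaller than the critical distance. -/
theorem theta {k : ℕ} (hmin : ∀ l < k, ∀ a b, Walk ε l a b →
    U V (pt ε 0) a ≤ centralizer (U V (pt ε 0) b : Set G)) :
    ∀ l < k, ∀ a b, Walk ε l a b → U V (pt ε 0) a ≤ Qn b := by
  intro l
  induction l with
  | zero =>
    intro _ a b h
    rw [h.zero_eq]
    exact B.U_le_Qn b
  | succ l ih =>
    intro hl a b h
    cases h with
    | @step _ _ p _ h1 hpb =>
      let T : Subgroup G := ⨆ a' : {a' : G // Walk ε l a' p}, U V (pt ε 0) (a' : G)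
      have hT1 : T ≤ Qn p := iSup_le fun a' => ih (by omega) _ _ a'.2
      have hT2 : T ≤ centralizer (U V (pt ε 0) b : Set G) :=
        iSup_le fun a' => hmin (l + 1) hl _ _ (a'.2.step hpb)
      have hT3 : U V (pt ε 0) a ≤ T :=
        le_iSup (fun a' : {a' : G // Walk ε l a' p} => U V (pt ε 0) (a' : G)) ⟨a, h1⟩
      have hT4 : ∀ c ∈ Cn p, MulAut.conj c • T ≤ T := by
        intro c hc
        rw [Subgroup.pointwise_smul_subset_iff]
        refine iSup_le fun a' => ?_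
        rw [← Subgroup.pointwise_smul_subset_iff, conj_U]
        have h2 := a'.2.conj c
        rw [mem_Cn'.1 hc] at h2
        exact le_iSup (fun a' : {a' : G // Walk ε l a' p} => U V (pt ε 0) (a' : G)) ⟨_, h2⟩
      refine hT3.trans (B.le_Qn (B.adj_symm hpb).left ((o2_isPGroup _).to_le hT1) hT2 ?_)
      intro c hc
      have hc' : c ∈ Cn p := B.centralizer_U_le (B.mem_U (B.adj_symm hpb)) hc
      refine mem_normalizer_of_conj_eq (le_antisymm (hT4 c hc') ?_)
      have h3 := conj_le_iff (g := c) |>.2 (hT4 c⁻¹ (inv_mem hc'))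
      rwa [conj_conj, mul_inv_cancel, map_one, one_smul] at h3

/-- There is a critical pair. -/
theorem exists_crit : ∃ k x y, Crit V ε k x y := by
  classical
  have h1 : ∃ k, ∃ x y, Walk ε k x y ∧ ¬ U V (pt ε 0) x ≤ centralizer (U V (pt ε 0) y : Set G) := by
    by_contra hcon
    push Not at hcon
    let I := {y : G // ∃ k, Walk ε k (pt ε 0) y}
    let T : Subgroup G := ⨆ y : I, U V (pt ε 0) (y : G)
    have hle : ∀ y, (∃ k, Walk ε k (pt ε 0) y) → U V (pt ε 0) y ≤ T := fun y hy =>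
      le_iSup (fun y : I => U V (pt ε 0) (y : G)) ⟨y, hy⟩
    have hcomm : T ≤ centralizer (T : Set G) := by
      refine iSup_le fun y => comm_symm (iSup_le fun y' => ?_)
      obtain ⟨k, hk⟩ := y.2
      obtain ⟨l, hl⟩ := y'.2
      exact hcon _ _ _ ((B.walk_symm hl).trans hk)
    have hsq : ∀ t ∈ T, t ^ 2 = 1 :=
      NoFF.Lines.Geo.sq_of_comm hcomm (B := fun y : I => U V (pt ε 0) (y : G)) (fun y => hle _ y.2) le_rfl
        fun y => B.U_sq _
    have h0 : Walk ε 0 (pt ε 0) (pt ε 0) := by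
      have := Walk.refl (ε := ε) 1
      simpa using this
    have hN : ∀ g : G, (∃ k, Walk ε k (pt ε 0) (g * pt ε 0 * g⁻¹)) → (∃ k, Walk ε k (pt ε 0) (g⁻¹ * pt ε 0 * g)) →
        g ∈ normalizer (T : Set G) := by
      have key : ∀ g : G, (∃ k, Walk ε k (pt ε 0) (g * pt ε 0 * g⁻¹)) → MulAut.conj g • T ≤ T := by
        rintro g ⟨k, hk⟩
        rw [Subgroup.pointwise_smul_subset_iff]
        refine iSup_le fun y => ?_
        rw [← Subgroup.pointwise_smul_subset_iff, conj_U]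
        obtain ⟨l, hl⟩ := y.2
        exact hle _ ⟨k + l, hk.trans (hl.conj g)⟩
      intro g hg hg'
      refine mem_normalizer_of_conj_eq (le_antisymm (key g hg) ?_)
      have h3 := conj_le_iff (g := g) |>.2 (key g⁻¹ (by rwa [inv_inv]))
      rwa [conj_conj, mul_inv_cancel, map_one, one_smul] at h3
    have hP : P ≤ normalizer (T : Set G) := by
      have key : ∀ w ∈ P, ∃ k, Walk ε k (pt ε 0) (w * pt ε 0 * w⁻¹) := by
        intro w hw
        obtain ⟨σ, hσ⟩ := B.ev.perm w hw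
        rw [hσ.single 0]
        by_cases h2 : σ 0 = 0
        · rw [h2]
          exact ⟨0, h0⟩
        · exact ⟨1, (B.adj_pt (Ne.symm h2)).walk⟩
      intro w hw
      refine hN w (key w hw) ?_
      have h2 := key w⁻¹ (P.inv_mem hw)
      rwa [inv_inv] at h2
    have hC : Cn (pt ε 0) ≤ normalizer (T : Set G) := by
      intro c hc
      refine hN c ⟨0, ?_⟩ ⟨0, ?_⟩
      · rw [mem_Cn'.1 hc]
        exact h0
      · have h2 := mem_Cn'.1 (inv_mem hc)
        rw [inv_inv] at h2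
        rw [h2]
        exact h0
    have h2 := B.nonLoc T (isPGroup_of_sq hsq) hP hC
    have h3 : pt ε 0 ∈ T := hle _ ⟨0, h0⟩ (B.V_le_U 0 (B.pt_mem 0))
    rw [h2, mem_bot] at h3
    exact B.pt_ne_one 0 h3
  obtain ⟨x, y, hw, hne⟩ := Nat.find_spec h1
  refine ⟨Nat.find h1, x, y, hw, hne, ?_⟩
  intro l hl a b hab
  by_contra hcon
  exact Nat.find_min h1 hl ⟨a, b, hab, hcon⟩

theorem crit_symm {k : ℕ} {x y : G} (h : Crit V ε k x y) : Crit V ε k y x :=
  ⟨B.walk_symm h.walk, fun h1 => h.ne (comm_symm h1), h.min⟩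

/-- The critical distance is positive. -/
theorem crit_pos {k : ℕ} {x y : G} (h : Crit V ε k x y) : ∃ l, k = l + 1 := by
  rcases k with _ | l
  · exfalso
    have h1 := h.walk.zero_eq
    apply h.ne
    rw [h1]
    exact B.U_comm y
  · exact ⟨l, rfl⟩

/-- `U_x ≤ Q_p` for the last point `p` before `y`. -/
theorem crit_le_Qn {k : ℕ} {x y p : G} (h : Crit V ε (k + 1) x y) (h1 : Walk ε k x p) :
    U V (pt ε 0) x ≤ Qn p := B.theta h.min k (Nat.lt_succ_self k) x p h1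

theorem crit_le_Cn {k : ℕ} {x y : G} (h : Crit V ε (k + 1) x y) : U V (pt ε 0) x ≤ Cn y := by
  have h1 := h.walk
  cases h1 with
  | step h2 a =>
    exact ((B.crit_le_Qn h h2).trans (B.Qn_le _)).trans (B.centralizer_U_le (B.mem_U a))

/-- `Q_{z_1} ≤ O₂(C_G(V))`. -/
theorem Qn_le_o2 (i : Fin n) : Qn (pt ε i) ≤ o2 (centralizer (V : Set G)) := by
  refine le_o2 ((B.Qn_le _).trans (centralizer_le (B.V_le_U i))) (o2_isPGroup _) ?_
  intro c hc
  refine le_normalizer_o2 _ (mem_Cn.2 ?_)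
  exact (mem_centralizer_iff.1 hc _ (B.pt_mem i)).symm

/-- **The offender**: a quadratic one of `A`, `A'`. -/
theorem exists_off [Finite G] : ∃ g : G,
    MulAut.conj g • U V (pt ε 0) (pt ε 0) ≤ Qn (pt ε 1) ∧
    MulAut.conj g • U V (pt ε 0) (pt ε 0) ≤ Cn (pt ε 0) ∧
    ¬ MulAut.conj g • U V (pt ε 0) (pt ε 0) ≤ centralizer (U V (pt ε 0) (pt ε 0) : Set G) ∧
    ⁅U V (pt ε 0) (pt ε 0), MulAut.conj g • U V (pt ε 0) (pt ε 0)⁆ ≤
      U V (pt ε 0) (pt ε 0) ⊓ MulAut.conj g • U V (pt ε 0) (pt ε 0) ∧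
    Nat.card (U V (pt ε 0) (pt ε 0)) *
      Nat.card (MulAut.conj g • U V (pt ε 0) (pt ε 0) ⊓ centralizer (U V (pt ε 0) (pt ε 0) : Set G) : Subgroup G) ≤
    Nat.card (MulAut.conj g • U V (pt ε 0) (pt ε 0) : Subgroup G) *
      Nat.card (U V (pt ε 0) (pt ε 0) ⊓
        centralizer ((MulAut.conj g • U V (pt ε 0) (pt ε 0) : Subgroup G) : Set G) : Subgroup G) := by
  obtain ⟨k, x, y, h0⟩ := B.exists_crit
  have hcard : ∀ (g : G) (A : Subgroup G), Nat.card (MulAut.conj g • A : Subgroup G) = Nat.card A := by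
    intro g A
    exact Nat.card_congr (Subgroup.equivSMul (MulAut.conj g) A).toEquiv.symm
  -- choose the direction
  have h1 : ∃ x y, Crit V ε k x y ∧
      Nat.card (U V (pt ε 0) x ⊓ centralizer (U V (pt ε 0) y : Set G) : Subgroup G) ≤
      Nat.card (U V (pt ε 0) y ⊓ centralizer (U V (pt ε 0) x : Set G) : Subgroup G) := by
    rcases le_total (Nat.card (U V (pt ε 0) x ⊓ centralizer (U V (pt ε 0) y : Set G) : Subgroup G))
      (Nat.card (U V (pt ε 0) y ⊓ centralizer (U V (pt ε 0) x : Set G) : Subgroup G)) with h | h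
    · exact ⟨x, y, h0, h⟩
    · exact ⟨y, x, B.crit_symm h0, h⟩
  obtain ⟨x, y, h, hle⟩ := h1
  obtain ⟨l, rfl⟩ := B.crit_pos h
  have hw := h.walk
  cases hw with
  | @step _ _ p _ hxp hpy =>
    obtain ⟨g, hg0, hg1⟩ := B.adj_symm hpy
    obtain ⟨a, ha⟩ := hxp.left
    have e0 : U V (pt ε 0) (pt ε 0) = MulAut.conj g⁻¹ • U V (pt ε 0) y := by
      rw [conj_U, ← hg0]
      congr 1
      group
    have e1 : MulAut.conj (g⁻¹ * a) • U V (pt ε 0) (pt ε 0) = MulAut.conj g⁻¹ • U V (pt ε 0) x := by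
      rw [← conj_conj, conj_U _ _ _ a, ha]
    refine ⟨g⁻¹ * a, ?_⟩
    rw [e1]
    have e2 : Qn (pt ε 1) = MulAut.conj g⁻¹ • Qn p := by
      rw [conj_Qn, ← hg1]
      congr 2
      group
    have e3 : Cn (pt ε 0) = MulAut.conj g⁻¹ • Cn y := by
      rw [conj_Cn, ← hg0]
      congr 2
      group
    rw [e0, e2, e3, centralizer_conj, centralizer_conj, ← smul_inf, ← smul_inf, ← smul_inf, ← conj_commutator,
      hcard, hcard, hcard, hcard, conj_le_iff, conj_le_iff, conj_le_iff, conj_le_iff]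
    refine ⟨B.crit_le_Qn h hxp, B.crit_le_Cn h, h.ne, ?_, ?_⟩
    · have h2 := (B.crit_le_Cn h).trans (Cn_le_normalizer (V := V) (pt ε 0) y)
      have h3 := (B.crit_le_Cn (B.crit_symm h)).trans (Cn_le_normalizer (V := V) (pt ε 0) x)
      rw [Subgroup.commutator_le]
      intro b hb c hc
      rw [commutatorElement_def]
      refine Subgroup.mem_inf.2 ⟨?_, ?_⟩
      · have h4 := mul_mem hb ((mem_normalizer_iff.1 (h2 hc) b⁻¹).1 (inv_mem hb))
        simpa only [mul_assoc] using h4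
      · exact mul_mem ((mem_normalizer_iff.1 (h3 hb) c).1 hc) (inv_mem hc)
    · have h2 : Nat.card (U V (pt ε 0) x) = Nat.card (U V (pt ε 0) y) := by
        rw [← ha, ← hg0, ← conj_U, ← conj_U, hcard, hcard]
      rw [h2]
      exact Nat.mul_le_mul_left _ hle

end Base

/-! ### More facts with the Sylow subgroup, for part (2) -/

section hyp

variable {G : Type u} [Group G] [Finite G] {S : Sylow 2 G} {P : Subgroup G} {m : ℕ}
  {ε : (Fin (2 ^ m + 1) → ZMod 2) → G} (h : Hyp S P m ε)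
include h

/-- `C_{U_z}(S) = ⟨z⟩`. -/
theorem Hyp.U_fixed {u : G} (hu : u ∈ U (zl (S : Subgroup G) P) (pt ε 0) (pt ε 0))
    (hS : ∀ s ∈ (S : Subgroup G), s * u = u * s) : u ∈ zpowers (pt ε 0) := by
  rw [← h.zc_eq, mem_zc]
  exact ⟨h.o2_le_S (h.base.U_le_Qn _ hu), hS, h.base.U_sq _ u hu⟩

/-- `O₂(C_G(z) / C_G(U_z)) = 1`. -/
theorem Hyp.o2_trivial {A : Subgroup G} (hA : A ≤ Cn (pt ε 0)) (hn : Cn (pt ε 0) ≤ normalizer (A : Set G))
    (h2 : ∀ a ∈ A, ∃ k : ℕ, a ^ 2 ^ k ∈ centralizer (U (zl (S : Subgroup G) P) (pt ε 0) (pt ε 0) : Set G)) :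
    A ≤ centralizer (U (zl (S : Subgroup G) P) (pt ε 0) (pt ε 0) : Set G) := by
  have hf : Fact (Nat.Prime 2) := ⟨Nat.prime_two⟩
  have hn3 := h.base.three_le
  set V := zl (S : Subgroup G) P with hV
  set C := centralizer (U V (pt ε 0) (pt ε 0) : Set G) with hC
  have hCV : C ≤ centralizer (V : Set G) := centralizer_le (h.base.V_le_U 0)
  -- `A ∩ P` centralises `V`
  have h3 : A ⊓ P ≤ centralizer (V : Set G) := by
    let T : Subgroup (Equiv.Perm (Fin (2 ^ m + 1))) := ((A ⊓ P).subgroupOf P).map (h.ev.hom hn3)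
    have hT0 : T = ⊥ := by
      refine sym_trivial (le_trans (by norm_num) h.nine_le) ?_ ?_ ?_
      · rintro ⟨_, ⟨⟨a, haP⟩, ha, rfl⟩⟩
        have ha' : a ∈ A ⊓ P := ha
        obtain ⟨k, hk⟩ := h2 a ha'.1
        refine ⟨k, Subtype.ext ?_⟩
        change (h.ev.hom hn3 ⟨a, haP⟩) ^ 2 ^ k = 1
        rw [← map_pow]
        exact h.ev.hom_eq hn3 (h.ev.acts_one_iff.2 (hCV hk))
      · rintro _ ⟨⟨a, haP⟩, ha, rfl⟩
        have ha' : a ∈ A ⊓ P := ha
        exact (h.ev.fixes_iff hn3 (h.ev.acts_hom hn3 ⟨a, haP⟩) 0).1 (mem_Cn.1 (hA ha'.1))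
      · rintro _ ⟨⟨a, haP⟩, ha, rfl⟩ s hs
        have ha' : a ∈ A ⊓ P := ha
        obtain ⟨⟨g, hgP⟩, hg⟩ := h.ev.hom_surjective hn3 s
        refine ⟨⟨g, hgP⟩ * ⟨a, haP⟩ * ⟨g, hgP⟩⁻¹, ?_, by rw [map_mul, map_mul, map_inv, hg]⟩
        have h1 : Acts ε g s := by
          rw [← hg]
          exact h.ev.acts_hom hn3 ⟨g, hgP⟩
        have h4 : g ∈ Cn (pt ε 0) := mem_Cn.2 ((h.ev.fixes_iff hn3 h1 0).2 hs)
        exact Subgroup.mem_inf.2 ⟨(mem_normalizer_iff.1 (hn h4) a).1 ha'.1, P.mul_mem (P.mul_mem hgP haP) (P.inv_mem hgP)⟩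
    intro a ha
    rw [← h.ev.acts_one_iff]
    have h1 := h.ev.acts_hom hn3 ⟨a, ha.2⟩
    have h4 : h.ev.hom hn3 ⟨a, ha.2⟩ ∈ T := ⟨_, ha, rfl⟩
    rw [hT0, mem_bot] at h4
    rwa [h4] at h1
  -- `A = C_A(U) (A ∩ S)`
  have hCz : C ≤ Cn (pt ε 0) := h.base.centralizer_U_le (h.base.mem_U_self ⟨1, by simp⟩)
  have hCn : Cn (pt ε 0) ≤ normalizer (C : Set G) := by
    intro c hc
    refine mem_normalizer_of_conj_eq ?_
    rw [hC, ← centralizer_conj, conj_U, mem_Cn'.1 hc]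
  let S' : Sylow 2 (Cn (pt ε 0)) :=
    (S.isPGroup'.comap_of_injective _ (Cn (pt ε 0)).subtype_injective :
      IsPGroup 2 ((S : Subgroup G).subgroupOf (Cn (pt ε 0)))).toSylow
      (MinSimple.Basic.not_dvd_relIndex S h.S_le)
  have h6 : (A.subgroupOf (Cn (pt ε 0))).Normal := normal_subgroupOf_of_le_normalizer hn
  have h7 : (C.subgroupOf (Cn (pt ε 0))).Normal := normal_subgroupOf_of_le_normalizer hCn
  have h8 := Lib.SylowNormalInf.le_sup_inf S' (A.subgroupOf (Cn (pt ε 0))) (C.subgroupOf (Cn (pt ε 0))) (by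
    rintro ⟨a, ha⟩ ha'
    obtain ⟨k, hk⟩ := h2 a ha'
    exact ⟨k, hk⟩)
  have h9 : A ≤ centralizer (V : Set G) := by
    intro a ha
    obtain ⟨c, hc, s, hs, hcs⟩ := Subgroup.mem_sup_of_normal_left.1
      (h8 (show (⟨a, hA ha⟩ : Cn (pt ε 0)) ∈ A.subgroupOf (Cn (pt ε 0)) from ha))
    have hs1 : (s : G) ∈ (S : Subgroup G) := hs.1
    have hs2 : (s : G) ∈ A := hs.2
    have hc1 : (c : G) ∈ C := hc
    have h10 : (c : G) * s = a := congrArg Subtype.val hcs
    rw [← h10]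
    exact mul_mem (hCV hc1) (h3 ⟨hs2, h.star.isLoc.le hs1⟩)
  refine comm_symm (U_le fun g hg => comm_symm ?_)
  have h10 := conj_le_iff (g := g) |>.2 h9
  rw [← centralizer_conj, conj_eq_self (hn (mem_Cn'.2 hg))] at h10
  exact h10

end hyp

end Cfsg.Agent.Omega.NO3S.SN
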