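import Cfsg.Agent.Mrg.Omega.NO3S.SN.End
import Cfsg.Agent.Mrg.Omega.S5.Syl
import Cfsg.Agent.Mrg.Omega.Exit.WeakClosed


/-!
# THEOREM SN: plug

* `Two K` : part (2) of THEOREM SN (input), `Hyp → Str`;
* `Hyp.of_symK` : the hypotheses from `FFThm.SymK` (one summand, `m ≥ 3`) and `NonLoc P (CZ S)`;
* `theoremSN` : **THEOREM SN**: if `V_P` is the even-subset module of `S_{2^m+1}`, `m ≥ 3`, then `⟨P, C_G(z)⟩` is
  2-local;
* `theoremSN_even`, `isLoc_sup` : the same for `EvenSet`, and `IsLoc S (P ⊔ CZ S)`;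
* `symBig` : the socket `NO3S.SymBig`.
-/

set_option autoImplicit false

namespace Cfsg.Agent.Omega.NO3S.SN

open Subgroup Cfsg Cfsg.Agent.ZN Cfsg.Agent.Omega.MinPar Cfsg.Agent.Omega.Frame Cfsg.Agent.Omega.FrameNOFF
open Cfsg.Agent.Omega.FrameFF (cv)
open Cfsg.Agent.Omega.FFThm (SymK)
open Cfsg.Agent.MinSimple.VModule
open scoped Pointwise

universe u

/-- Part (2) of THEOREM SN. -/
def Two (K : Cls.{u}) : Prop :=
  ∀ (G : Type u) [Group G] [Finite G], K G → ∀ (S : Sylow 2 G) (P : Subgroup G) (m : ℕ)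
    (ε : (Fin (2 ^ m + 1) → ZMod 2) → G), Hyp S P m ε → Str S P m ε

theorem Hyp.of_symK {G : Type u} [Group G] [Finite G] {S : Sylow 2 G} {P : Subgroup G} (hG : Ctx G)
    (hP : IsParS (S : Subgroup G) P) (hn : NonLoc P (CZ (S : Subgroup G))) {m : ℕ} (hm : 3 ≤ m)
    (M : SymK (S : Subgroup G) P (zl (S : Subgroup G) P) (cv (S : Subgroup G) P) 1 m) :
    ∃ ε, Hyp S P m ε := by
  have h1 : 1 ≤ m := le_trans (by norm_num) hm
  have hD : cv (S : Subgroup G) P = ⊥ :=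
    NoFF.LinesPlug.inf_oddGen_eq_bot hG.char2 S hP.toIsPar (NoFF.LinesPlug.inf_eq_bot S hn)
  have hH := le_normalizer_zl (S : Subgroup G) P
  exact ⟨S5.Of.lab M h1, hG, hP, hn, hm, S5.Of.evenSet M hD h1 hH, S5.Of.fix0 M hD h1 hH hP.isLoc.le⟩

/-- **THEOREM SN** (helper62 #15240), modulo part (2). -/
theorem theoremSN {K : Cls.{u}} (h2 : Two K) {G : Type u} [Group G] [Finite G] (hK : K G) (hG : Ctx G)
    (S : Sylow 2 G) {P : Subgroup G} (hP : IsParS (S : Subgroup G) P) {m : ℕ} (hm : 3 ≤ m)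
    (M : SymK (S : Subgroup G) P (zl (S : Subgroup G) P) (cv (S : Subgroup G) P) 1 m) :
    ¬ NonLoc P (CZ (S : Subgroup G)) := by
  intro hn
  obtain ⟨ε, h⟩ := Hyp.of_symK hG hP hn hm M
  exact false_of_str h (h2 G hK S P m ε h)

/-- THEOREM SN for a labelled module. -/
theorem theoremSN_even {K : Cls.{u}} (h2 : Two K) {G : Type u} [Group G] [Finite G] (hK : K G) (hG : Ctx G)
    (S : Sylow 2 G) {P : Subgroup G} (hP : IsParS (S : Subgroup G) P) {m : ℕ} (hm : 3 ≤ m)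
    {ε : (Fin (2 ^ m + 1) → ZMod 2) → G} (hV : S5.Def.EvenSet (2 ^ m + 1) (zl (S : Subgroup G) P) P ε)
    (h0 : S5.Syl.Fix0 ε (S : Subgroup G)) : ¬ NonLoc P (CZ (S : Subgroup G)) := fun hn =>
  false_of_str ⟨hG, hP, hn, hm, hV, h0⟩ (h2 G hK S P m ε ⟨hG, hP, hn, hm, hV, h0⟩)

/-- `⟨P, C_G(z)⟩` is 2-local. -/
theorem isLoc_sup {K : Cls.{u}} (h2 : Two K) {G : Type u} [Group G] [Finite G] (hK : K G) (hG : Ctx G)
    (S : Sylow 2 G) {P : Subgroup G} (hP : IsParS (S : Subgroup G) P) {m : ℕ} (hm : 3 ≤ m)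
    {ε : (Fin (2 ^ m + 1) → ZMod 2) → G} (hV : S5.Def.EvenSet (2 ^ m + 1) (zl (S : Subgroup G) P) P ε)
    (h0 : S5.Syl.Fix0 ε (S : Subgroup G)) :
    IsLoc (S : Subgroup G) (P ⊔ CZ (S : Subgroup G)) :=
  (not_nonLoc_iff S hP.isLoc.le).1 (theoremSN_even h2 hK hG S hP hm hV h0)

/-- The socket of `Node/NO3S.lean`. -/
theorem symBig {K : Cls.{u}} (h2 : Two K) : NO3S.SymBig K := by
  intro G _ _ hK S P h m hm M
  exact absurd h.nonLoc (theoremSN h2 hK h.ctx S h.star hm M)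

end Cfsg.Agent.Omega.NO3S.SN
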